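import Cfsg.Agent.H290.ElReg
import Cfsg.Agent.H915.GNDefs_m3
import Cfsg.Agent.H341.ThreeList_m3
import Cfsg.Agent.H851.Dg.Count
import Cfsg.Agent.Prune
set_option linter.all false

section
prune_inst 0x7f00000000000000000000000000000000000000000000000000000000000000000000000000000000000000000000000000000000000000000000000000000000000000000000000000000000000000003fffffffffffffffffffffffffffbeffbdffffffff

-- part: H598/ExcFth
section
set_option linter.all false

/-!
# The exceptional groups have faithful representations of degree at most 248 in their own characteristic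
-/

set_option autoImplicit false

namespace Cfsg.Agent.H598.ExcFth

open Cfsg Cfsg.Lie Cfsg.Agent.OrdDiv Cfsg.Agent.H290.ElReg
open Cfsg.Agent.H436 (IsNamed)
open Cfsg.Agent.H915.GN (HasChar)

/-- names of the exceptional groups of Lie type -/
def IsExc : Grp → Prop
  | .g2 _ => True
  | .f4 _ => True
  | .e6 _ => True
  | .e7 _ => True
  | .e8 _ => True
  | .te6 _ => True
  | .td4 _ => True
  | .sz _ => True
  | .ree _ => True
  | .tf4 _ => True
  | _ => False

theorem fth_le {ι : Type} [Fintype ι] [DecidableEq ι] {F : Type} [Field F]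
    {G : Subgroup (Matrix.GeneralLinearGroup ι F)} {T : Type} [Group T] (e : T ≃* ↥G) (hn : Fintype.card ι ≤ 248) :
    ∃ n ≤ 248, Fth n F T := ⟨_, hn, (Fth.of G.subtype_injective).congr e.symm⟩

theorem char_data (F : Type) [Field F] [Fintype F] {q k : ℕ} (hk : k ≠ 0) (hF : Fintype.card F = q ^ k) :
    ∃ p : ℕ, ∃ _ : CharP F p, p.Prime ∧ ∃ f, q = p ^ f := by
  obtain ⟨p, hp⟩ := CharP.exists F
  obtain ⟨n, hp1, hn⟩ := FiniteField.card F p
  have h1 : q ∣ p ^ (n : ℕ) := hn ▸ hF ▸ dvd_pow_self q hk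
  obtain ⟨f, -, hf⟩ := (Nat.dvd_prime_pow hp1).1 h1
  exact ⟨p, hp, hp1, f, hf⟩

/-- **Exceptional groups**: a faithful representation of degree at most 248 over a finite field in the own
characteristic. -/
theorem exc_fth' {T : Type} [Group T] {g : Grp} (h : Real g T) (hg : IsExc g) :
    ∃ (p : ℕ) (F : Type) (_ : Field F) (_ : Fintype F) (_ : CharP F p), p.Prime ∧ HasChar p g ∧
      ∃ n ≤ 248, Fth n F T := by
  cases g with
  | g2 q =>
    obtain ⟨F, i1, i2, hF, ⟨e⟩⟩ := h
    obtain ⟨p, hc, hp, hq⟩ := char_data F one_ne_zero (hF.trans (pow_one q).symm)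
    exact ⟨p, F, i1, i2, hc, hp, hq, fth_le e (by decide +kernel)⟩
  | f4 q =>
    obtain ⟨F, i1, i2, hF, ⟨e⟩⟩ := h
    obtain ⟨p, hc, hp, hq⟩ := char_data F one_ne_zero (hF.trans (pow_one q).symm)
    exact ⟨p, F, i1, i2, hc, hp, hq, fth_le e (by decide +kernel)⟩
  | e6 q =>
    obtain ⟨F, i1, i2, hF, ⟨e⟩⟩ := h
    obtain ⟨p, hc, hp, hq⟩ := char_data F one_ne_zero (hF.trans (pow_one q).symm)
    exact ⟨p, F, i1, i2, hc, hp, hq, fth_le e (by decide +kernel)⟩
  | e7 q =>
    obtain ⟨F, i1, i2, hF, ⟨e⟩⟩ := h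
    obtain ⟨p, hc, hp, hq⟩ := char_data F one_ne_zero (hF.trans (pow_one q).symm)
    exact ⟨p, F, i1, i2, hc, hp, hq, fth_le e (by decide +kernel)⟩
  | e8 q =>
    obtain ⟨F, i1, i2, hF, ⟨e⟩⟩ := h
    obtain ⟨p, hc, hp, hq⟩ := char_data F one_ne_zero (hF.trans (pow_one q).symm)
    exact ⟨p, F, i1, i2, hc, hp, hq, fth_le e (by decide +kernel)⟩
  | te6 q =>
    obtain ⟨F, i1, i2, hF, ⟨e⟩⟩ := h
    obtain ⟨p, hc, hp, hq⟩ := char_data F two_ne_zero hF
    exact ⟨p, F, i1, i2, hc, hp, hq, fth_le e (by decide +kernel)⟩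
  | td4 q =>
    obtain ⟨F, i1, i2, hF, ⟨e⟩⟩ := h
    obtain ⟨p, hc, hp, hq⟩ := char_data F three_ne_zero hF
    exact ⟨p, F, i1, i2, hc, hp, hq, fth_le e (by decide +kernel)⟩
  | sz q =>
    obtain ⟨F, i1, i2, m, hm, hF, hq', ⟨e⟩⟩ := h
    obtain ⟨p, hc, hp, hq⟩ := char_data F one_ne_zero (hF.trans (pow_one q).symm)
    exact ⟨p, F, i1, i2, hc, hp, hq, fth_le e (by decide +kernel)⟩
  | ree q =>
    obtain ⟨F, i1, i2, m, hm, hF, hq', ⟨e⟩⟩ := h
    obtain ⟨p, hc, hp, hq⟩ := char_data F one_ne_zero (hF.trans (pow_one q).symm)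
    exact ⟨p, F, i1, i2, hc, hp, hq, fth_le e (by decide +kernel)⟩
  | tf4 q =>
    obtain ⟨F, i1, i2, m, hm, hF, hq', ⟨e⟩⟩ := h
    obtain ⟨p, hc, hp, hq⟩ := char_data F one_ne_zero (hF.trans (pow_one q).symm)
    exact ⟨p, F, i1, i2, hc, hp, hq, fth_le e (by decide +kernel)⟩
  | _ => exact hg.elim

/-- the form asked for by TEAM Dg (S5734) -/
theorem exc_fth {T : Type} [Group T] [Finite T] {g : Grp} (h : IsNamed g T) (hg : IsExc g) :
    ∃ (p : ℕ) (F : Type) (_ : Field F) (_ : CharP F p), p.Prime ∧ HasChar p g ∧ ∃ n ≤ 248, Fth n F T := by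
  obtain ⟨p, F, h1, -, h2, h3⟩ := exc_fth' h.real hg
  exact ⟨p, F, h1, h2, h3⟩

end Cfsg.Agent.H598.ExcFth
end

-- part: H851/Dg/Exc
section
set_option linter.all false
open scoped Cfsg.Agent.FastGrp

/-!
# S5734: exceptional groups, a missing prime power gives many derangements
-/

set_option autoImplicit false

namespace Cfsg.Agent.H851.Dg

open Cfsg.Agent.OrdDiv Cfsg.Agent.H436 Cfsg.Agent.H915.GN Cfsg.Agent.H598.ExcFth Cfsg.Agent.H290.ElReg
open Subgroup

section Unip

variable {H : Type*} [Group H] [Finite H] {p : ℕ} [Fact p.Prime]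

/-- cyclic `p`-subgroups in characteristic `p` are small -/
theorem pow_le_of_cycP {F : Type*} [Field F] [CharP F p] {ι : Type*} [Fintype ι] [DecidableEq ι]
    (ρ : H →* Matrix.GeneralLinearGroup ι F) (hρ : Function.Injective ρ) (hcyc : CycP p H) {m : ℕ}
    (hd : p ^ m ∣ Nat.card H) : p ^ m ≤ p * (Fintype.card ι + 1) := by
  classical
  have hp : p.Prime := Fact.out
  obtain ⟨P⟩ := (inferInstance : Nonempty (Sylow p H))
  have := hcyc P P.isPGroup'
  obtain ⟨⟨y, hyP⟩, hy⟩ := IsCyclic.exists_generator (α := P)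
  obtain ⟨a, ha⟩ := P.isPGroup'.exists_card_eq
  have hoy : orderOf y = p ^ a := by
    rw [← ha, ← Nat.card_zpowers]
    congr 1
    have : zpowers y = (P : Subgroup H) := by
      refine le_antisymm (by rw [zpowers_le]; exact hyP) fun z hz => ?_
      obtain ⟨k, hk⟩ := mem_zpowers_iff.1 (hy ⟨z, hz⟩)
      exact mem_zpowers_iff.2 ⟨k, congrArg Subtype.val hk⟩
    rw [this]
  -- `y` is unipotent
  let A : Matrix ι ι F := (ρ y : Matrix ι ι F)
  have hA : A ^ p ^ a = 1 := by
    have h1 : ρ y ^ p ^ a = 1 := by rw [← map_pow, ← hoy, pow_orderOf_eq_one, map_one]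
    have h2 := congrArg Units.val h1
    rwa [Units.val_pow_eq_pow_val] at h2
  rcases isEmpty_or_nonempty ι with hι | hι
  · have h1 : y = 1 := hρ (Units.ext (Matrix.ext fun i => (hι.false i).elim))
    have h2 : p ^ a = 1 := by rw [← hoy, h1, orderOf_one]
    have h3 := P.pow_dvd_card_of_pow_dvd_card hd
    rw [ha, h2] at h3
    have h4 := Nat.le_of_dvd (by norm_num) h3
    have := hp.pos
    nlinarith
  have hchar : CharP (Matrix ι ι F) p := Matrix.charP p
  have hnil : (A - 1) ^ p ^ a = 0 := by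
    rw [sub_pow_char_pow_of_commute _ _ (Commute.one_right A), hA, one_pow, sub_self]
  have hnil2 : (A - 1) ^ Fintype.card ι = 0 := by
    have h1 : IsNilpotent (A - 1) := ⟨_, hnil⟩
    have h2 := Matrix.isNilpotent_charpoly_sub_pow_of_isNilpotent h1
    have h3 : (A - 1).charpoly = Polynomial.X ^ Fintype.card ι := by
      rw [isNilpotent_iff_eq_zero, sub_eq_zero] at h2
      exact h2
    have h4 := (A - 1).aeval_self_charpoly
    rw [h3, map_pow, Polynomial.aeval_X] at h4
    exact h4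
  set N := Fintype.card ι with hN
  set k := Nat.clog p (N + 1) with hk
  have hk1 : N + 1 ≤ p ^ k := Nat.le_pow_clog hp.one_lt _
  have hk2 : p ^ k ≤ p * (N + 1) := by
    rcases Nat.eq_zero_or_pos k with h0 | h0
    · rw [h0, pow_zero]
      have := hp.pos
      nlinarith
    · have h5 : p ^ (k - 1) < N + 1 := Nat.pow_pred_clog_lt_self hp.one_lt (by
        have : 0 < N := Fintype.card_pos
        omega)
      calc p ^ k = p * p ^ (k - 1) := by rw [← pow_succ']; congr 1; omega
        _ ≤ p * (N + 1) := Nat.mul_le_mul_left _ h5.le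
  have h6 : A ^ p ^ k = 1 := by
    have h7 : (A - 1) ^ p ^ k = 0 := pow_eq_zero_of_le (by omega) hnil2
    rw [sub_pow_char_pow_of_commute _ _ (Commute.one_right A), one_pow, sub_eq_zero] at h7
    exact h7
  have h7 : y ^ p ^ k = 1 := hρ (by
    rw [map_pow, map_one]
    apply Units.ext
    rw [Units.val_pow_eq_pow_val]
    exact h6)
  have h8 := orderOf_dvd_of_pow_eq_one h7
  rw [hoy] at h8
  have h9 := P.pow_dvd_card_of_pow_dvd_card hd
  rw [ha] at h9
  exact (Nat.le_of_dvd (pow_pos hp.pos _) (h9.trans h8)).trans hk2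

end Unip

/-- the parameter of an exceptional group -/
def qE : Grp → ℕ
  | .g2 q => q
  | .f4 q => q
  | .e6 q => q
  | .e7 q => q
  | .e8 q => q
  | .te6 q => q
  | .td4 q => q
  | .sz q => q
  | .ree q => q
  | .tf4 q => q
  | _ => 0

theorem sq_dvd_aux {q a d c X : ℕ} (ha : 2 ≤ a) (hd : Nat.Coprime q d) (h : d * c = q ^ a * X) : q ^ 2 ∣ c := by
  have h1 : q ^ 2 ∣ d * c := by
    rw [h]
    exact (pow_dvd_pow q ha).mul_right _
  exact (Nat.Coprime.pow_left 2 hd).dvd_of_dvd_mul_left h1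

theorem coprime_gcd_pred {q k : ℕ} (hq : 1 ≤ q) : Nat.Coprime q (Nat.gcd k (q - 1)) := by
  refine Nat.Coprime.coprime_dvd_right (Nat.gcd_dvd_right _ _) ?_
  have : Nat.Coprime (q - 1 + 1) (q - 1) := by simp
  rwa [Nat.sub_add_cancel hq] at this

theorem coprime_gcd_succ {q k : ℕ} : Nat.Coprime q (Nat.gcd k (q + 1)) :=
  Nat.Coprime.coprime_dvd_right (Nat.gcd_dvd_right _ _) (by simp)

theorem exc_sq_dvd {g : Grp} (hg : IsExc g) (hc : Cond g) {c : ℕ} (h : den g * c = num g) : qE g ^ 2 ∣ c := by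
  cases g with
  | g2 q => exact sq_dvd_aux (a := 6) (d := 1) (by norm_num) (by simp) h
  | f4 q => exact sq_dvd_aux (a := 24) (d := 1) (by norm_num) (by simp) h
  | e6 q => exact sq_dvd_aux (a := 36) (by norm_num) (coprime_gcd_pred (show 1 ≤ q from (IsPrimePow.two_le hc).trans' (by norm_num))) h
  | e7 q => exact sq_dvd_aux (a := 63) (by norm_num) (coprime_gcd_pred (show 1 ≤ q from (IsPrimePow.two_le hc).trans' (by norm_num))) h
  | e8 q => exact sq_dvd_aux (a := 120) (d := 1) (by norm_num) (by simp) h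
  | te6 q => exact sq_dvd_aux (a := 36) (by norm_num) coprime_gcd_succ h
  | td4 q => exact sq_dvd_aux (a := 12) (d := 1) (by norm_num) (by simp) h
  | sz q => exact sq_dvd_aux (a := 2) (d := 1) (by norm_num) (by simp) h
  | ree q => exact sq_dvd_aux (a := 3) (d := 1) (by norm_num) (by simp) h
  | tf4 q => exact sq_dvd_aux (a := 12) (d := 1) (by norm_num) (by simp) h
  | _ => exact hg.elim

theorem exc_den_pos {g : Grp} (hg : IsExc g) (hc : Cond g) : 1 ≤ den g := den_pos hc

theorem exc_char {g : Grp} {p : ℕ} (hg : IsExc g) (hp : HasChar p g) : ∃ f, qE g = p ^ f := by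
  cases g with
  | g2 q => exact hp
  | f4 q => exact hp
  | e6 q => exact hp
  | e7 q => exact hp
  | e8 q => exact hp
  | te6 q => exact hp
  | td4 q => exact hp
  | sz q => exact hp
  | ree q => exact hp
  | tf4 q => exact hp
  | _ => exact hg.elim

theorem exc_two_le {g : Grp} (hg : IsExc g) (hc : Cond g) : 2 ≤ qE g := by
  cases g with
  | g2 q => exact hc.2.two_le
  | f4 q => exact IsPrimePow.two_le hc
  | e6 q => exact IsPrimePow.two_le hc
  | e7 q => exact IsPrimePow.two_le hc
  | e8 q => exact IsPrimePow.two_le hc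
  | te6 q => exact IsPrimePow.two_le hc
  | td4 q => exact IsPrimePow.two_le hc
  | sz q => obtain ⟨m, hm, h⟩ := hc; change 2 ≤ q; rw [h]; exact (Nat.le_self_pow (by omega) 2)
  | ree q => obtain ⟨m, hm, h⟩ := hc; change 2 ≤ q; rw [h]; exact (show 2 ≤ 3 by norm_num).trans (Nat.le_self_pow (by omega) 3)
  | tf4 q => obtain ⟨m, hm, h⟩ := hc; change 2 ≤ q; rw [h]; exact (Nat.le_self_pow (by omega) 2)
  | _ => exact hg.elim

/-- the orders of the exceptional groups with bounded `q` -/
theorem exc_num_le (Q : ℕ) : ∃ B : ℕ, ∀ g : Grp, IsExc g → qE g ≤ Q → num g ≤ B := by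
  let f : ℕ → ℕ := fun q => num (.g2 q) + num (.f4 q) + num (.e6 q) + num (.e7 q) + num (.e8 q) + num (.te6 q) +
    num (.td4 q) + num (.sz q) + num (.ree q) + num (.tf4 q)
  refine ⟨(Finset.range (Q + 1)).sup f, fun g hg hq => ?_⟩
  have h1 : f (qE g) ≤ (Finset.range (Q + 1)).sup f := Finset.le_sup (f := f) (Finset.mem_range.2 (by omega))
  refine le_trans ?_ h1
  cases g with
  | g2 q => change num (.g2 q) ≤ f q; simp only [f]; omega
  | f4 q => change num (.f4 q) ≤ f q; simp only [f]; omega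
  | e6 q => change num (.e6 q) ≤ f q; simp only [f]; omega
  | e7 q => change num (.e7 q) ≤ f q; simp only [f]; omega
  | e8 q => change num (.e8 q) ≤ f q; simp only [f]; omega
  | te6 q => change num (.te6 q) ≤ f q; simp only [f]; omega
  | td4 q => change num (.td4 q) ≤ f q; simp only [f]; omega
  | sz q => change num (.sz q) ≤ f q; simp only [f]; omega
  | ree q => change num (.ree q) ≤ f q; simp only [f]; omega
  | tf4 q => change num (.tf4 q) ≤ f q; simp only [f]; omega
  | _ => exact hg.elim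

/-- **Exceptional groups.** -/
theorem exc_count : ∃ B : ℕ, ∀ (g : Grp) (T : Type) [Group T] [Finite T], IsNamed g T → IsExc g → B ≤ Nat.card T →
    ∀ R : Subgroup T, MissC R → Nat.card T ≤ 496 * nd R := by
  obtain ⟨B, hB⟩ := exc_num_le 249
  refine ⟨B + 1, fun g T _ _ hT hg hBT R hR => ?_⟩
  obtain ⟨u, j, hu, hj, h1, h2, hcyc⟩ := hR
  obtain ⟨p, F, _, _, hp, hch, n, hn, ρ, hρ⟩ := exc_fth hT hg
  have := Fact.mk hp
  have := Fact.mk hu
  by_cases hup : u = p
  · exfalso
    subst hup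
    obtain ⟨f, hf⟩ := exc_char hg hch
    have h3 := exc_sq_dvd hg hT.cond hT.eq
    rw [hf, ← pow_mul] at h3
    have h4 := pow_le_of_cycP ρ hρ hcyc h3
    rw [Fintype.card_fin] at h4
    have h5 : qE g * qE g ≤ qE g * (n + 1) := by
      have h6 : u ≤ qE g := by
        rw [hf]
        have hf0 : f ≠ 0 := by
          rintro rfl
          have := exc_two_le hg hT.cond
          rw [hf] at this
          simp at this
        exact Nat.le_self_pow hf0 u
      calc qE g * qE g = u ^ (f * 2) := by rw [hf, ← pow_add]; congr 1; omega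
        _ ≤ u * (n + 1) := h4
        _ ≤ qE g * (n + 1) := Nat.mul_le_mul_right _ h6
    have h6 := Nat.le_of_mul_le_mul_left h5 (by have := exc_two_le hg hT.cond; omega)
    have h7 := hB g hg (by omega)
    have h8 : Nat.card T ≤ num g := by
      rw [← hT.eq]
      exact Nat.le_mul_of_pos_left _ (exc_den_pos hg hT.cond)
    omega
  · have huF : (u : F) ≠ 0 := by
      intro h
      rw [CharP.cast_eq_zero_iff F p u] at h
      exact hup ((Nat.prime_dvd_prime_iff_eq hp hu).1 h).symm
    have h3 := sing_pow huF ρ hρ hcyc hj h1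
    rw [Fintype.card_fin] at h3
    have h4 : Nat.card {h : T // u ^ j ∣ orderOf h} ≤ nd R := by
      refine card_le_nd (s := {x : T | u ^ j ∣ orderOf x}) fun x hx g hg => h2 ?_
      have h5 : orderOf (g * x * g⁻¹) = orderOf x := by
        have := orderOf_injective (MulAut.conj g).toMonoidHom (MulAut.conj g).injective x
        simpa using this
      have h6 : orderOf (⟨g * x * g⁻¹, hg⟩ : R) = orderOf x := by rw [Subgroup.orderOf_mk, h5]
      have h7 : u ^ j ∣ orderOf x := hx
      rw [← h6] at h7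
      exact h7.trans (orderOf_dvd_natCard _)
    calc Nat.card T ≤ 2 * n * Nat.card {h : T // u ^ j ∣ orderOf h} := h3
      _ ≤ 496 * nd R := Nat.mul_le_mul (by omega) h4

end Cfsg.Agent.H851.Dg
end
end
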