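import Cfsg.Agent.H851.Dg.RowChar_mg_m3
import Cfsg.Agent.H278.ElExc
import Cfsg.Agent.OrdDiv.Table
import Cfsg.Agent.S0000
import Cfsg.Agent.S0205
import Cfsg.Agent.Prune
set_option linter.all false
prune_inst 0x7f00000000000000000000000000000000000000000000000000000000000000000000000000000000000000000000000000000000000000000000000000000000000000000000000000000000000000003fffffffffffffffffffffffffffbeffbdffffffff

/-!
# S5734: the rows, without hypotheses (these use the classification)
-/

set_option autoImplicit false

namespace Cfsg.Agent.H851.Dg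

open Cfsg Cfsg.Agent.OrdDiv Cfsg.Agent.H436

universe u

theorem knownAll : ∀ (X : Type) [Group X] [Finite X] [IsSimpleGroup X], IsKnownSimple' X :=
  fun _ _ _ _ => S0000.result

theorem nameRow : NameRow := fun _ _ _ _ hna => exists_named OrdDiv.table S0000.result fun h => hna ⟨⟨h⟩⟩

theorem bdRow : BdRow := fun _ _ _ _ hna => H934.OutAll.bd hna S0000.result

theorem two_dvd_of_not_solvable (X : Type u) [Group X] [Finite X] (h : ¬ Group.IsSolvable X) : 2 ∣ Nat.card X := by
  by_contra hcon
  exact h (S0205.result (Nat.not_even_iff_odd.1 fun he => hcon he.two_dvd))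

theorem excRow : ExcRow :=
  excRow_of OrdDiv.table knownAll H278.El.Asm.asThm (H278.El.Asm.richFix knownAll)
    (fun X _ _ h => two_dvd_of_not_solvable X h) nameRow

end Cfsg.Agent.H851.Dg
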